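import Cfsg.Agent.Lib.TwoPrime.Core

/-!
Fields of prime degree inside a normalised matrix field, for degree twelve; fields from homogeneous restrictions.
-/

set_option autoImplicit false

namespace Cfsg.Agent.Twelve

open scoped Matrix MatrixGroups Kronecker
open Module PrimeDim TwoPrime Polynomial

variable {n : ℕ} {F : Type*} [Field F]

local notation "V" => Fin n → F

local notation "Mat" => Matrix (Fin n) (Fin n) F

/-- The fixed points of a power of the Frobenius map in the commutant. -/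
theorem quadratic_sub [Fintype F] [NeZero n] (C : Subalgebra F Mat) [IsDomain C] {b : ℕ} (hb : 0 < b)
    (hf : finrank F C = 2 * b) :
    ∃ K : Subalgebra F Mat, K ≤ C ∧ finrank F K = 2 ∧
      ∀ a, a ∈ K ↔ a ∈ C ∧ a ^ Fintype.card F ^ 2 = a := by
  classical
  have hfield : IsField C := Finite.isDomain_to_isField _
  have hcm : ∀ a ∈ C, ∀ c ∈ C, Commute a c := fun a ha c hc =>
    congrArg Subtype.val (hfield.mul_comm (⟨a, ha⟩ : C) ⟨c, hc⟩)
  set q := Fintype.card F
  have hq : 1 < q := Fintype.one_lt_card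
  obtain ⟨p, hchar⟩ := CharP.exists F
  haveI := hchar
  obtain ⟨e, hp, hcard⟩ := FiniteField.card F p
  haveI : Fact p.Prime := ⟨hp⟩
  have hqp : q ^ 2 = p ^ ((e : ℕ) * 2) := by rw [show q = p ^ (e : ℕ) from hcard, ← pow_mul]
  let K : Subalgebra F Mat :=
    { carrier := {a | a ∈ C ∧ a ^ q ^ 2 = a}
      mul_mem' := fun {a c} ha hc => ⟨C.mul_mem ha.1 hc.1, by
        rw [(hcm a ha.1 c hc.1).mul_pow, ha.2, hc.2]⟩
      one_mem' := ⟨C.one_mem, one_pow _⟩
      add_mem' := fun {a c} ha hc => ⟨C.add_mem ha.1 hc.1, by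
        rw [hqp] at ha hc ⊢
        rw [add_pow_char_pow_of_commute p _ (hcm a ha.1 c hc.1), ha.2, hc.2]⟩
      zero_mem' := ⟨C.zero_mem, zero_pow (pow_ne_zero _ (by omega))⟩
      algebraMap_mem' := fun c => ⟨C.algebraMap_mem c, by
        rw [← map_pow, FiniteField.pow_card_pow]⟩ }
  have hcardC : Nat.card C = q ^ (2 * b) := by
    rw [Module.natCard_eq_pow_finrank (K := F), Nat.card_eq_fintype_card, hf]
  have hdvd : q ^ 2 - 1 ∣ Nat.card C - 1 := by
    have h1 := Nat.sub_dvd_pow_sub_pow (q ^ 2) 1 b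
    rwa [one_pow, ← pow_mul, ← hcardC] at h1
  obtain ⟨hroots, w, hwp, hwo⟩ :=
    domain_roots C (q ^ 2) (Nat.one_lt_pow two_ne_zero hq) hdvd
  have hcardK : Nat.card K ≤ q ^ 2 := by
    refine le_trans (Nat.card_le_card_of_injective
      (fun a : K => (⟨⟨a.1, a.2.1⟩, Subtype.ext a.2.2⟩ : {x : C // x ^ q ^ 2 = x})) ?_) hroots
    exact fun a c e => Subtype.ext (congrArg (fun z : {x : C // x ^ q ^ 2 = x} => ((z.1 : Mat))) e :)
  refine ⟨K, fun a ha => ha.1, ?_, fun a => Iff.rfl⟩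
  have hKfin : Nat.card K = q ^ finrank F K := by
    rw [Module.natCard_eq_pow_finrank (K := F), Nat.card_eq_fintype_card]
  have h2 : finrank F K ≤ 2 := by
    rw [hKfin] at hcardK
    exact (Nat.pow_le_pow_iff_right hq).1 hcardK
  have h1 : finrank F K ≠ 1 := by
    intro e1
    obtain ⟨c, hc⟩ := exists_smul_eq_of_finrank_eq_one e1 (x := (1 : K))
      (fun e => one_ne_zero (α := Mat) (congrArg Subtype.val e)) ⟨(w : Mat), w.2, congrArg Subtype.val hwp⟩
    have hc' : (w : Mat) = c • (1 : Mat) := (congrArg Subtype.val hc).symm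
    have h3 : w ^ (q - 1) = 1 := by
      refine Subtype.ext ?_
      have hc0 : c ≠ 0 := fun e0 => by
        have hw0 : w = 0 := Subtype.ext (by rw [hc', e0, zero_smul]; rfl)
        rw [hw0, orderOf_zero] at hwo
        have := Nat.one_lt_pow two_ne_zero hq
        omega
      rw [SubmonoidClass.coe_pow, hc', _root_.smul_pow, one_pow, FiniteField.pow_card_sub_one_eq_one c hc0, one_smul]
      rfl
    have h4 := orderOf_dvd_of_pow_eq_one h3
    rw [hwo] at h4
    have h5 := Nat.le_of_dvd (by omega) h4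
    have : q < q ^ 2 := by nlinarith
    omega
  have h0 : finrank F K ≠ 0 := by
    haveI : Nontrivial K := ⟨⟨0, 1, fun e => zero_ne_one (α := Mat) (congrArg Subtype.val e)⟩⟩
    exact finrank_pos.ne'
  omega

/-- A field normalised by a group contains one of prime degree. -/
theorem prime_sub [Fintype F] [NeZero n] (C : Subalgebra F Mat) [IsDomain C] (hf : finrank F C ∣ 12)
    (hf1 : finrank F C ≠ 1) {G0 : Subgroup (GL (Fin n) F)}
    (hconj : ∀ g ∈ G0, ∀ a ∈ C, (g : Mat) * a * ((g⁻¹ : GL (Fin n) F) : Mat) ∈ C) :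
    ∃ (r : ℕ) (K : Subalgebra F Mat), (r = 2 ∨ r = 3) ∧ K ≤ C ∧ Cfsg.Geo.IsFieldSubalgebra r K ∧
      G0 ≤ Cfsg.Geo.subalgebraNormalizer K := by
  classical
  have hfield : IsField C := Finite.isDomain_to_isField _
  have hinv : ∀ K : Subalgebra F Mat, K ≤ C → ∀ a ∈ K, a ≠ 0 → ∃ c ∈ K, a * c = 1 := by
    intro K hK a ha ha0
    let L : K → K := fun c => ⟨a * c, K.mul_mem ha c.2⟩
    have hL : Function.Injective L := by
      intro c c' e
      have e' : (⟨a, hK ha⟩ : C) * ⟨c, hK c.2⟩ = (⟨a, hK ha⟩ : C) * ⟨c', hK c'.2⟩ :=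
        Subtype.ext (congrArg Subtype.val e :)
      have h2 := mul_left_cancel₀ (fun e0 => ha0 (congrArg Subtype.val e0)) e'
      exact Subtype.ext (congrArg Subtype.val h2 :)
    obtain ⟨c, hc⟩ := Finite.injective_iff_surjective.1 hL ⟨1, K.one_mem⟩
    exact ⟨c, c.2, congrArg Subtype.val hc⟩
  have hmk : ∀ (r : ℕ) (K : Subalgebra F Mat), K ≤ C → finrank F K = r →
      (∀ g ∈ G0, ∀ a ∈ K, (g : Mat) * a * ((g⁻¹ : GL (Fin n) F) : Mat) ∈ K) →
      Cfsg.Geo.IsFieldSubalgebra r K ∧ G0 ≤ Cfsg.Geo.subalgebraNormalizer K := by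
    refine fun r K hK hr hconjK => ⟨⟨fun a ha c hc =>
      congrArg Subtype.val (hfield.mul_comm (⟨a, hK ha⟩ : C) ⟨c, hK hc⟩), hinv K hK, hr⟩, fun g hg a => ?_⟩
    refine ⟨hconjK g hg a, fun h => ?_⟩
    simpa [mul_assoc, ← Units.val_mul] using hconjK g⁻¹ (G0.inv_mem hg) _ h
  rcases Nat.even_or_odd (finrank F C) with ⟨b, hb⟩ | hodd
  · obtain ⟨K, hK, hK2, hmem⟩ := quadratic_sub C (b := b) (by
      rcases Nat.eq_zero_or_pos b with e | e
      · subst e; rw [hb] at hf; norm_num at hf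
      · exact e) (by omega)
    obtain ⟨h1, h2⟩ := hmk 2 K hK hK2 fun g hg a ha => by
      obtain ⟨ha1, ha2⟩ := (hmem a).1 ha
      refine (hmem _).2 ⟨hconj g hg a ha1, ?_⟩
      rw [Units.conj_pow, ha2]
    exact ⟨2, K, .inl rfl, hK, h1, h2⟩
  · have h3 : finrank F C = 3 := by
      have hle := Nat.le_of_dvd (by norm_num) hf
      generalize finrank F C = f at *
      interval_cases f <;> simp_all (config := {decide := true})
    obtain ⟨h1, h2⟩ := hmk 3 C le_rfl h3 hconj
    exact ⟨3, C, .inr rfl, le_rfl, h1, h2⟩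

/-- A homogeneous restriction whose constituent is not absolutely irreducible gives a field. -/
theorem field_of_endo [Fintype F] [NeZero n] {N : Subgroup (GL (Fin n) F)} {k d : ℕ} (T : TensorBasis N k d)
    (hk : 0 < k) (hd : 0 < d) (hd12 : d ∣ 12) (hsc : ¬ ScalarCommutant T.ρ.range) {G0 : Subgroup (GL (Fin n) F)}
    (hn : ∀ g ∈ G0, ∀ x ∈ N, g * x * g⁻¹ ∈ N) :
    ∃ (r : ℕ) (K : Subalgebra F Mat), (r = 2 ∨ r = 3) ∧ Cfsg.Geo.IsFieldSubalgebra r K ∧
      G0 ≤ Cfsg.Geo.subalgebraNormalizer K ∧ ∀ a ∈ K, ∀ x ∈ N, a * (x : Mat) = (x : Mat) * a := by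
  classical
  haveI : NeZero d := ⟨hd.ne'⟩
  haveI := commutant_isDomain T.irr
  set E := commutantAlg T.ρ.range
  have hEc : ∀ a ∈ E, ∀ c ∈ E, a * c = c * a := fun a ha c hc =>
    congrArg Subtype.val ((Finite.isDomain_to_isField E).mul_comm (⟨a, ha⟩ : E) ⟨c, hc⟩)
  let Φ : Matrix (Fin d) (Fin d) F →ₐ[F] Mat :=
    ((LinearMap.toMatrixAlgEquiv' (R := F) (n := Fin n)).toAlgHom).comp
      (((Matrix.toLinAlgEquiv T.β).toAlgHom).comp
        { toFun := fun z => (1 : Matrix (Fin k) (Fin k) F) ⊗ₖ z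
          map_one' := Matrix.one_kronecker_one
          map_mul' := fun a c => by rw [← Matrix.mul_kronecker_mul, one_mul]
          map_zero' := Matrix.kronecker_zero _
          map_add' := fun a c => Matrix.kronecker_add _ _ _
          commutes' := fun c => by
            rw [Algebra.algebraMap_eq_smul_one, Algebra.algebraMap_eq_smul_one, Matrix.kronecker_smul,
              Matrix.one_kronecker_one] })
  have hΦ : ∀ z j l, Φ z *ᵥ T.β (j, l) = ∑ i, z i l • T.β (j, i) := by
    intro z j l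
    show LinearMap.toMatrix' (Matrix.toLinAlgEquiv T.β ((1 : Matrix (Fin k) (Fin k) F) ⊗ₖ z)) *ᵥ T.β (j, l) = _
    rw [LinearMap.toMatrix'_mulVec, Matrix.toLinAlgEquiv_self, Fintype.sum_prod_type,
      Finset.sum_eq_single j (fun i _ hi => by simp [Matrix.one_apply, hi]) (by simp)]
    simp [Matrix.one_apply]
  have hrepr : ∀ z v j, (fun a => T.β.repr (Φ z *ᵥ v) (j, a)) = z *ᵥ fun a => T.β.repr v (j, a) := by
    intro z v j
    funext a
    conv_lhs => rw [← T.β.sum_repr v, Matrix.mulVec_sum]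
    simp [Matrix.mulVec_smul, hΦ, Fintype.sum_prod_type, Finsupp.single_apply, ite_and, Matrix.mulVec, dotProduct,
      mul_comm]
  have hΦx : ∀ x : N, Φ (T.ρ x : Matrix (Fin d) (Fin d) F) = ((x : GL (Fin n) F) : Mat) := fun x =>
    Matrix.toLin'.injective (T.β.ext fun p => by
      obtain ⟨j, l⟩ := p
      rw [Matrix.toLin'_apply, Matrix.toLin'_apply, hΦ, T.act])
  have hΦi : Function.Injective Φ := fun a c h => Matrix.ext fun i l => by
    have := congrArg (fun M => T.β.repr (M *ᵥ T.β (⟨0, hk⟩, l)) (⟨0, hk⟩, i)) h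
    simpa [hΦ, Finsupp.single_apply] using this
  -- the centre of the commutant
  let Z : Subalgebra F Mat :=
    Subalgebra.centralizer F (Cfsg.Geo.matrixSet N ∪ (commutantAlg N : Set Mat))
  have hZ : ∀ {a}, a ∈ Z ↔ a ∈ commutantAlg N ∧ ∀ c ∈ commutantAlg N, c * a = a * c := by
    intro a
    rw [Subalgebra.mem_centralizer_iff, mem_commutantAlg]
    refine ⟨fun h => ⟨fun x hx => (h _ (.inl ⟨x, hx, rfl⟩)).symm, fun c hc => h c (.inr hc)⟩, ?_⟩
    rintro ⟨h, h'⟩ g (⟨x, hx, rfl⟩ | hg)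
    · exact (h x hx).symm
    · exact h' g hg
  have hblock : ∀ c ∈ commutantAlg N, ∀ i j,
      (Matrix.of fun a l => T.β.repr (c *ᵥ T.β (j, l)) (i, a)) ∈ E := by
    intro c hc i j
    rw [mem_commutantAlg]
    rintro _ ⟨x, rfl⟩
    ext a l
    have h1 := congrFun (T.repr_act x (c *ᵥ T.β (j, l)) i) a
    rw [Matrix.mulVec_mulVec, ← mem_commutantAlg.1 hc _ x.2, ← Matrix.mulVec_mulVec, T.act] at h1
    simp only [Matrix.mulVec_sum, Matrix.mulVec_smul, map_sum, map_smul, Finsupp.coe_finsetSum, Finset.sum_apply,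
      Finsupp.smul_apply, smul_eq_mul] at h1
    rw [Matrix.mul_apply, Matrix.mul_apply]
    simp only [Matrix.of_apply]
    simpa [Matrix.mulVec, dotProduct, mul_comm] using h1
  have hmap : E.map Φ = Z := by
    refine le_antisymm ?_ fun a ha => ?_
    · rintro _ ⟨z, hz, rfl⟩
      refine hZ.2 ⟨mem_commutantAlg.2 fun x hx => ?_, fun c hc => ?_⟩
      · rw [← hΦx ⟨x, hx⟩, RingHom.coe_coe, ← map_mul, ← map_mul, mem_commutantAlg.1 hz _ ⟨⟨x, hx⟩, rfl⟩]
      · refine Matrix.toLin'.injective (T.β.ext fun p => T.β.ext_elem fun q => ?_)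
        obtain ⟨j, l⟩ := p
        obtain ⟨i, a⟩ := q
        have h := congrFun (congrFun (hEc _ (hblock c hc i j) z hz) a) l
        simp only [Matrix.mul_apply, Matrix.of_apply] at h
        rw [Matrix.toLin'_apply, Matrix.toLin'_apply, RingHom.coe_coe, ← Matrix.mulVec_mulVec,
          ← Matrix.mulVec_mulVec, congrFun (hrepr z _ i) a, hΦ]
        simp only [Matrix.mulVec_sum, Matrix.mulVec_smul, map_sum, map_smul, Finsupp.coe_finsetSum, Finset.sum_apply,
          Finsupp.smul_apply, smul_eq_mul, Matrix.mulVec, dotProduct]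
        rw [← h]
        exact Finset.sum_congr rfl fun x _ => mul_comm _ _
    · obtain ⟨ha1, ha2⟩ := hZ.1 ha
      let i0 : Fin k := ⟨0, hk⟩
      let z : Matrix (Fin d) (Fin d) F := Matrix.of fun x l => T.β.repr (a *ᵥ T.β (i0, l)) (i0, x)
      refine ⟨z, hblock a ha1 i0 i0, Matrix.toLin'.injective (T.β.ext fun p => T.β.ext_elem fun q => ?_)⟩
      obtain ⟨j, l⟩ := p
      obtain ⟨i, x⟩ := q
      -- the map exchanging a block with the first one
      let u : Module.End F V := T.β.constr F fun p : Fin k × Fin d => if p.1 = i0 then T.β (j, p.2) else 0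
      let u' : Module.End F V := T.β.constr F fun p : Fin k × Fin d => if p.1 = i then T.β (i0, p.2) else 0
      have hu : ∀ (w : Module.End F V) (α γ : Fin k), (∀ p : Fin k × Fin d,
          w (T.β p) = if p.1 = α then T.β (γ, p.2) else 0) → LinearMap.toMatrix' w ∈ commutantAlg N := by
        intro w α γ hw
        refine mem_commutantAlg.2 fun y hy => Matrix.toLin'.injective (T.β.ext fun p => ?_)
        obtain ⟨j', l'⟩ := p
        rw [Matrix.toLin'_apply, Matrix.toLin'_apply, ← Matrix.mulVec_mulVec, ← Matrix.mulVec_mulVec,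
          LinearMap.toMatrix'_mulVec, LinearMap.toMatrix'_mulVec, T.act ⟨y, hy⟩, map_sum, hw]
        simp only [map_smul, hw]
        split
        · rw [T.act ⟨y, hy⟩]
        · simp
      have hu1 := ha2 _ (hu u i0 j fun p => T.β.constr_basis F _ p)
      have hu2 := ha2 _ (hu u' i i0 fun p => T.β.constr_basis F _ p)
      have e1 : a *ᵥ T.β (j, l) = u (a *ᵥ T.β (i0, l)) := by
        have := congrArg (· *ᵥ T.β (i0, l)) hu1
        simp only [← Matrix.mulVec_mulVec, LinearMap.toMatrix'_mulVec] at this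
        rw [this, T.β.constr_basis]
        simp
      rw [Matrix.toLin'_apply, Matrix.toLin'_apply, RingHom.coe_coe, hΦ, e1]
      conv_rhs => rw [← T.β.sum_repr (a *ᵥ T.β (i0, l))]
      simp only [map_sum, map_smul, Finsupp.coe_finsetSum, Finset.sum_apply, Finsupp.smul_apply, smul_eq_mul,
        Basis.repr_self, u, Basis.constr_basis, Fintype.sum_prod_type]
      rw [Finset.sum_eq_single (ι := Fin k) (s := Finset.univ) i0 (fun j' _ hj' => by
        refine Finset.sum_eq_zero fun l' _ => ?_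
        simp [hj']) (by simp)]
      simp [z]
  haveI : IsDomain Z := by
    haveI : Nontrivial Z := ⟨⟨0, 1, fun e => zero_ne_one (α := Mat) (congrArg Subtype.val e)⟩⟩
    haveI : NoZeroDivisors Z := ⟨fun {x y} h => by
      obtain ⟨u, hu, eu⟩ := hmap.ge x.2
      obtain ⟨w, hw, ew⟩ := hmap.ge y.2
      have h1 : (⟨u, hu⟩ : E) * ⟨w, hw⟩ = 0 := Subtype.ext (hΦi (by
        show Φ (u * w) = Φ 0
        rw [map_zero, map_mul]
        exact (congrArg₂ (· * ·) eu ew).trans (congrArg Subtype.val h)))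
      rcases mul_eq_zero.1 h1 with e | e
      · exact .inl (Subtype.ext (by rw [← eu, show u = 0 from congrArg Subtype.val e]; exact map_zero Φ))
      · exact .inr (Subtype.ext (by rw [← ew, show w = 0 from congrArg Subtype.val e]; exact map_zero Φ))⟩
    exact NoZeroDivisors.to_isDomain _
  have hfin : finrank F Z = finrank F E := by
    rw [← hmap]
    exact (Subalgebra.equivMapOfInjective E Φ hΦi).toLinearEquiv.finrank_eq.symm
  have hf1 : finrank F Z ≠ 1 := by
    rw [hfin]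
    intro e
    refine hsc fun M hM => ?_
    obtain ⟨c, hc⟩ := exists_smul_eq_of_finrank_eq_one e (x := (1 : E))
      (fun e => one_ne_zero (α := Matrix (Fin d) (Fin d) F) (congrArg Subtype.val e)) ⟨M, mem_commutantAlg.2 hM⟩
    exact ⟨c, (congrArg Subtype.val hc).symm⟩
  have hconjC : ∀ g ∈ G0, ∀ a ∈ commutantAlg N,
      (g : Mat) * a * ((g⁻¹ : GL (Fin n) F) : Mat) ∈ commutantAlg N := by
    intro g hg a ha
    rw [mem_commutantAlg] at ha ⊢
    intro x hx
    have h1 := ha _ (show g⁻¹ * x * g ∈ N by simpa using hn g⁻¹ (G0.inv_mem hg) x hx)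
    have h2 := congrArg (fun M => (g : Mat) * M * ((g⁻¹ : GL (Fin n) F) : Mat)) h1
    simp only [Units.val_mul, ← mul_assoc] at h2
    simpa [mul_assoc] using h2
  obtain ⟨r, K, hr, hKZ, hK, hle⟩ := prime_sub Z (hfin ▸ (finrank_commutant_dvd T.irr).trans hd12) hf1
    (G0 := G0) fun g hg a ha => by
      obtain ⟨ha1, ha2⟩ := hZ.1 ha
      refine hZ.2 ⟨hconjC g hg a ha1, fun c hc => ?_⟩
      have h1 := ha2 _ (hconjC g⁻¹ (G0.inv_mem hg) c hc)
      have h2 := congrArg (fun M => (g : Mat) * M * ((g⁻¹ : GL (Fin n) F) : Mat)) h1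
      simpa [mul_assoc, ← mul_assoc (g : Mat) ((g⁻¹ : GL (Fin n) F) : Mat), ← Units.val_mul] using h2
  exact ⟨r, K, hr, hK, hle, fun a ha => mem_commutantAlg.1 (hZ.1 (hKZ ha)).1⟩

end Cfsg.Agent.Twelve
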